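import Groth.Agent.TorShift.Basic
import Mathlib.LinearAlgebra.ExteriorAlgebra.Basis
import Mathlib.LinearAlgebra.CliffordAlgebra.Contraction

/-!
# A lifted relation of a quotient of finite tor dimension

If `M` squares to `f g` over `P'`, then comparison with a resolution of `P/(fs)` shows that a power of `g` lies in
`(fs)` modulo the annihilator of `f`, as soon as one syzygy is flat over the base.
-/

noncomputable section

universe u

open scoped Matrix

namespace Groth.Agent.RelLift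

section Clifford

variable {P : Type u} [CommRing P] {m : ℕ}

/-- A square matrix with square `∑ r_j f_j` and a distinguished coordinate. -/
theorem exists_matrix (f r : Fin m → P) :
    ∃ (M : Matrix (Finset (Fin m)) (Finset (Fin m)) P) (c u : Finset (Fin m) → P),
      M * M = (∑ j, r j * f j) • 1 ∧ (∀ t, (c ᵥ* M) t ∈ Ideal.span (Set.range f)) ∧ c ⬝ᵥ u = 1 ∧
        ∀ t, (M *ᵥ u) t ∈ Ideal.span (Set.range r) := by
  classical
  let φ : Module.Dual P (Fin m → P) := Fintype.linearCombination P f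
  let E := ExteriorAlgebra P (Fin m → P)
  let ct : E →ₗ[P] E := CliffordAlgebra.contractLeft φ
  let ιr : E := ExteriorAlgebra.ι P r
  let D : E →ₗ[P] E := ct + LinearMap.mulLeft P ιr
  let ε : E →ₐ[P] P := ExteriorAlgebra.algebraMapInv
  let b : Module.Basis (Finset (Fin m)) P E := (Pi.basisFun P (Fin m)).ExteriorAlgebra
  have hφr : φ r = ∑ j, r j * f j := by simp [φ, Fintype.linearCombination_apply]
  have hDD : ∀ x, D (D x) = φ r • x := by
    intro x
    have h1 : ∀ y, ct (ιr * y) = φ r • y - ιr * ct y := fun y => CliffordAlgebra.contractLeft_ι_mul _ _ _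
    have h2 : ct (ct x) = 0 := CliffordAlgebra.contractLeft_contractLeft _ _
    have h3 : ιr * ιr = 0 := ExteriorAlgebra.ι_sq_zero r
    simp only [D, LinearMap.add_apply, LinearMap.mulLeft_apply, map_add, h1, h2, mul_add, ← mul_assoc, h3, zero_mul]
    abel
  have hει : ∀ v : Fin m → P, ε (ExteriorAlgebra.ι P v) = 0 := fun v =>
    (ExteriorAlgebra.lift_ι_apply P _ _ v).trans rfl
  have hε : ∀ x, ε (D x) ∈ Ideal.span (Set.range f) := by
    intro x
    rw [LinearMap.add_apply, map_add, LinearMap.mulLeft_apply, map_mul, hει, zero_mul, add_zero]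
    induction x using CliffordAlgebra.left_induction with
    | algebraMap a =>
      rw [show ct (algebraMap P _ a) = 0 from CliffordAlgebra.contractLeft_algebraMap _ _ a, map_zero]
      exact zero_mem _
    | add a b ha hb => rw [map_add, map_add]; exact add_mem ha hb
    | ι_mul a v _ =>
      rw [show ct (CliffordAlgebra.ι _ v * a) = φ v • a - CliffordAlgebra.ι _ v * ct a from
        CliffordAlgebra.contractLeft_ι_mul _ _ _, map_sub, map_smul, map_mul,
        show ε (CliffordAlgebra.ι _ v) = 0 from hει v, zero_mul, sub_zero, smul_eq_mul]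
      refine Ideal.mul_mem_right _ _ ?_
      simp only [φ, Fintype.linearCombination_apply, smul_eq_mul]
      exact Ideal.sum_mem _ fun j _ => Ideal.mul_mem_left _ _ (Ideal.subset_span ⟨j, rfl⟩)
  have hc : ∀ x, (fun s => ε (b s)) ⬝ᵥ (b.repr x : Finset (Fin m) → P) = ε x := fun x => by
    conv_rhs => rw [← b.sum_repr x, map_sum]
    simp only [dotProduct, map_smul, smul_eq_mul, mul_comm]
  refine ⟨LinearMap.toMatrix b b D, fun s => ε (b s), b.repr 1, ?_, fun t => ?_, ?_, fun t => ?_⟩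
  · rw [← LinearMap.toMatrix_comp, show D ∘ₗ D = φ r • LinearMap.id from LinearMap.ext hDD, map_smul,
      LinearMap.toMatrix_id, hφr]
  · rw [show ((fun s => ε (b s)) ᵥ* LinearMap.toMatrix b b D) t = ε (D (b t)) by
      rw [← hc (D (b t))]; simp [Matrix.vecMul, LinearMap.toMatrix_apply]]
    exact hε _
  · rw [hc, map_one]
  · have h1 : D 1 = ExteriorAlgebra.ι P r := by
      have h0 : ct 1 = 0 := CliffordAlgebra.contractLeft_one _ φ
      simp only [D, LinearMap.add_apply, h0, zero_add, LinearMap.mulLeft_apply, mul_one, ιr]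
    rw [show (LinearMap.toMatrix b b D *ᵥ (b.repr 1 : Finset (Fin m) → P)) t = b.repr (D 1) t from
      congrFun (LinearMap.toMatrix_mulVec_repr b b D 1) t, h1]
    conv in ExteriorAlgebra.ι P r => rw [pi_eq_sum_univ' r]
    rw [map_sum, map_sum, Finsupp.finsetSum_apply]
    refine Ideal.sum_mem _ fun j _ => ?_
    rw [map_smul, map_smul, Finsupp.smul_apply, smul_eq_mul]
    exact Ideal.mul_mem_right _ _ (Ideal.subset_span ⟨j, rfl⟩)

end Clifford

section Chain

variable {P : Type u} [CommRing P]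

/-- A resolution by finite free modules, given by matrices. -/
theorem exists_resolution [IsNoetherianRing P] {l₀ l₁ : ℕ} (A : Matrix (Fin l₀) (Fin l₁) P) :
    ∃ (b : ℕ → ℕ) (D : ∀ n, Matrix (Fin (b n)) (Fin (b (n + 1))) P) (h₀ : b 0 = l₀) (h₁ : b 1 = l₁),
      (∀ i j, D 0 i j = A (Fin.cast h₀ i) (Fin.cast h₁ j)) ∧
      ∀ n, Function.Exact (D (n + 1)).mulVecLin (D n).mulVecLin := by
  classical
  have step : ∀ X : Σ a b : ℕ, Matrix (Fin a) (Fin b) P,
      ∃ (c : ℕ) (B : Matrix (Fin X.2.1) (Fin c) P), Function.Exact B.mulVecLin X.2.2.mulVecLin := by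
    intro X
    obtain ⟨c, v, hv⟩ := Submodule.fg_iff_exists_fin_generating_family.1
      (IsNoetherian.noetherian (LinearMap.ker X.2.2.mulVecLin))
    refine ⟨c, Matrix.of fun i j => v j i, ?_⟩
    rw [LinearMap.exact_iff, Matrix.range_mulVecLin]
    exact hv.symm
  choose c B hB using step
  let next : (Σ a b : ℕ, Matrix (Fin a) (Fin b) P) → Σ a b : ℕ, Matrix (Fin a) (Fin b) P := fun X => ⟨_, c X, B X⟩
  let X : ℕ → Σ a b : ℕ, Matrix (Fin a) (Fin b) P := fun n => n.rec ⟨l₀, l₁, A⟩ fun _ Y => next Y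
  exact ⟨fun n => (X n).1, fun n => (X n).2.2, rfl, rfl, fun i j => rfl, fun n => hB (X n)⟩

/-- A column of matrices can be lifted along an exact pair. -/
theorem exists_mul_eq {a b c : ℕ} {s : Type*} (D : Matrix (Fin a) (Fin b) P) (D' : Matrix (Fin b) (Fin c) P)
    (h : Function.Exact D'.mulVecLin D.mulVecLin) (G : Matrix (Fin b) s P) (hG : D * G = 0) :
    ∃ G' : Matrix (Fin c) s P, D' * G' = G := by
  have : ∀ t, ∃ y, D' *ᵥ y = fun i => G i t := fun t => (h fun i => G i t).1 (funext fun i => congrFun (congrFun hG i) t)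
  choose y hy using this
  exact ⟨fun j t => y t j, Matrix.ext fun i t => congrFun (hy t) i⟩

variable {P' Q : Type u} [CommRing P'] [CommRing Q] (θ : P →+* Q) (π : P' →+* P) (f : P')

/-- The data of a resolution lifted to `P'`. -/
theorem exists_pow_mem (hθ : Function.Surjective θ) (hπ : Function.Surjective π) (hker : ∀ x, π x = 0 → ∃ y, x = f * y) (hf : π f = 0)
    (hann : ∀ x, f * x = 0 → θ (π x) = 0) {s : Type} [Fintype s] [DecidableEq s] (M : Matrix s s P') (c u : s → P')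
    (g : P') (hM : M * M = (f * g) • 1) (hcu : c ⬝ᵥ u = 1) (hMu : ∀ t, θ (π ((M *ᵥ u) t)) = 0)
    (b : ℕ → ℕ) (D : ∀ n, Matrix (Fin (b n)) (Fin (b (n + 1))) P) (hb : b 0 = 1)
    (hD : ∀ n, Function.Exact (D (n + 1)).mulVecLin (D n).mulVecLin)
    (hcM : ∀ t, ∃ y, D 0 *ᵥ y = fun _ => π ((c ᵥ* M) t))
    (N : ℕ) (hpure : ∀ x : Fin (b (2 * N + 2)) → P, (∀ i, θ ((D (2 * N + 1) *ᵥ x) i) = 0) →
      ∃ y, (∀ i, θ (y i) = 0) ∧ D (2 * N + 1) *ᵥ y = D (2 * N + 1) *ᵥ x) :
    ∃ (j : ℕ) (y : Fin (b 1) → P), ∀ i, θ ((D 0 *ᵥ y) i) = θ (π g) ^ j := by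
  classical
  let θπ : P' →+* Q := θ.comp π
  -- the comparison maps
  let M₀ : Matrix s s P := M.map π
  have hM₀ : M₀ * M₀ = 0 := by
    rw [← Matrix.map_mul, hM]
    ext i j
    by_cases h : i = j <;> simp [Matrix.one_apply, h, hf]
  choose y₁ hy₁ using hcM
  let Φ₀ : Matrix (Fin (b 0)) s P := fun _ t => π (c t)
  let Φ₁ : Matrix (Fin (b 1)) s P := fun i t => y₁ t i
  have hΦ₁ : D 0 * Φ₁ = Φ₀ * M₀ := Matrix.ext fun i t => by
    refine (congrFun (hy₁ t) i).trans ?_
    simp [Φ₀, M₀, Matrix.vecMul, dotProduct, Matrix.mul_apply, map_sum]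
  have hnext : ∀ n (G : {G : Matrix (Fin (b (n + 1))) s P // D n * G * M₀ = 0}),
      ∃ G' : {G' : Matrix (Fin (b (n + 2))) s P // D (n + 1) * G' * M₀ = 0}, D (n + 1) * G'.1 = G.1 * M₀ := by
    intro n G
    obtain ⟨G', hG'⟩ := exists_mul_eq _ _ (hD n) (G.1 * M₀) (by rw [← Matrix.mul_assoc]; exact G.2)
    exact ⟨⟨G', by rw [hG', Matrix.mul_assoc, hM₀, Matrix.mul_zero]⟩, hG'⟩
  choose nx hnx using hnext
  let Ψ : ∀ n, {G : Matrix (Fin (b (n + 1))) s P // D n * G * M₀ = 0} := fun n =>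
    n.rec ⟨Φ₁, by rw [hΦ₁, Matrix.mul_assoc, hM₀, Matrix.mul_zero]⟩ fun n G => nx n G
  let Φ : ∀ n, Matrix (Fin (b n)) s P := fun n => match n with
    | 0 => Φ₀
    | n + 1 => (Ψ n).1
  have hΦ : ∀ n, D n * Φ (n + 1) = Φ n * M₀ := fun n => match n with
    | 0 => hΦ₁
    | n + 1 => hnx n (Ψ n)
  -- lifts to `P'`
  have hlift : ∀ {α β : Type} (G : Matrix α β P), ∃ G' : Matrix α β P', G'.map π = G := fun G =>
    ⟨fun i j => Function.surjInv hπ (G i j), Matrix.ext fun i j => Function.surjInv_eq hπ _⟩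
  have hdiv : ∀ {α β : Type _} (G : Matrix α β P'), G.map π = 0 → ∃ G' : Matrix α β P', G = f • G' := fun G hG => by
    choose y hy using fun i j => hker (G i j) (congrFun (congrFun hG i) j)
    exact ⟨y, Matrix.ext hy⟩
  have hcan : ∀ {α β : Type _} (G G' : Matrix α β P'), f • G = f • G' → G.map θπ = G'.map θπ := fun G G' h =>
    Matrix.ext fun i j => sub_eq_zero.1 (by
      have := hann (G i j - G' i j) (by rw [mul_sub, sub_eq_zero]; exact congrFun (congrFun h i) j)
      rw [map_sub, map_sub] at this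
      exact this)
  choose D' hD' using fun n => hlift (D n)
  choose Φ' hΦ' using fun n => (show ∃ G' : Matrix (Fin (b n)) s P', G'.map π = Φ n from
    ⟨fun i j => Function.surjInv hπ (Φ n i j), Matrix.ext fun i j => Function.surjInv_eq hπ _⟩)
  have hDD : ∀ n, D n * D (n + 1) = 0 := fun n => Matrix.mulVec_injective (funext fun y => by
    rw [← Matrix.mulVec_mulVec, Matrix.zero_mulVec]
    exact (hD n).apply_apply_eq_zero y)
  choose H hH using fun n => hdiv (D' n * D' (n + 1)) (by rw [Matrix.map_mul, hD', hD', hDD])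
  choose K hK using fun n => hdiv (D' n * Φ' (n + 1) - Φ' n * M)
    (by rw [Matrix.map_sub (hf := map_sub π), Matrix.map_mul, Matrix.map_mul, hD', hΦ', hΦ', hΦ, sub_self])
  have hcomm : ∀ n, (D' n * H (n + 1)).map θπ = (H n * D' (n + 2)).map θπ := fun n => hcan _ _ (by
    rw [← Matrix.mul_smul, ← Matrix.smul_mul, ← hH, ← hH, Matrix.mul_assoc])
  have hkey : ∀ n, (H n * Φ' (n + 2)).map θπ = (g • Φ' n + K n * M + D' n * K (n + 1)).map θπ := fun n => hcan _ _ (by
    rw [← Matrix.smul_mul, ← hH, Matrix.mul_assoc,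
      show D' (n + 1) * Φ' (n + 2) = Φ' (n + 1) * M + f • K (n + 1) by rw [← hK]; abel,
      Matrix.mul_add, Matrix.mul_smul, ← Matrix.mul_assoc,
      show D' n * Φ' (n + 1) = Φ' n * M + f • K n by rw [← hK]; abel,
      Matrix.add_mul, Matrix.mul_assoc (Φ' n), hM, Matrix.mul_smul, Matrix.mul_one, Matrix.smul_mul, smul_add,
      smul_add, ← smul_smul])
  -- cycles
  let w : ∀ n, Fin (b n) → Q := fun n => (Φ' n).map θπ *ᵥ (θπ ∘ u)
  let Dq : ∀ n, Matrix (Fin (b n)) (Fin (b (n + 1))) Q := fun n => (D n).map θ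
  have hDq : ∀ n, (D' n).map θπ = Dq n := fun n => Matrix.ext fun i j => congrArg θ (congrFun (congrFun (hD' n) i) j)
  have hMu' : M.map θπ *ᵥ (θπ ∘ u) = 0 := funext fun t => by
    rw [← RingHom.map_mulVec]
    exact hMu t
  let OK : ℕ → Prop := fun n => ∃ (j : ℕ) (y : Fin (b (n + 1)) → Q), Dq n *ᵥ y = θπ g ^ j • w n
  have hdown : ∀ n, OK (n + 2) → OK n := by
    rintro n ⟨j, y, hy⟩
    refine ⟨j + 1, (H (n + 1)).map θπ *ᵥ y - θπ g ^ j • ((K (n + 1)).map θπ *ᵥ (θπ ∘ u)), ?_⟩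
    rw [Matrix.mulVec_sub, Matrix.mulVec_smul, Matrix.mulVec_mulVec, ← hDq, ← Matrix.map_mul, hcomm, Matrix.map_mul,
      ← Matrix.mulVec_mulVec, hDq, hy, Matrix.mulVec_smul, Matrix.mulVec_mulVec, ← Matrix.map_mul, hkey,
      Matrix.mulVec_mulVec, ← Matrix.map_mul, ← smul_sub, ← Matrix.sub_mulVec,
      ← Matrix.map_sub _ (map_sub θπ), add_sub_cancel_right, Matrix.map_add _ (map_add θπ), Matrix.add_mulVec,
      Matrix.map_mul, ← Matrix.mulVec_mulVec, hMu', Matrix.mulVec_zero, add_zero,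
      show (g • Φ' n).map θπ = θπ g • (Φ' n).map θπ from Matrix.ext fun i j => map_mul θπ _ _, Matrix.smul_mulVec, smul_smul, ← pow_succ]
  have hstart : OK (2 * N + 2) := by
    let x : Fin (b (2 * N + 2)) → P := Φ (2 * N + 2) *ᵥ (π ∘ u)
    obtain ⟨y, hy, hyx⟩ := hpure x (fun i => by
      rw [Matrix.mulVec_mulVec, hΦ (2 * N + 1), ← Matrix.mulVec_mulVec, RingHom.map_mulVec]
      have h0 : θ ∘ (M₀ *ᵥ (π ∘ u)) = 0 := funext fun t => by
        rw [Function.comp_apply, ← RingHom.map_mulVec]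
        exact hMu t
      rw [h0, Matrix.mulVec_zero]
      rfl)
    obtain ⟨z, hz⟩ := (hD (2 * N + 1) (x - y)).1 (by
      rw [map_sub]; exact sub_eq_zero.2 hyx.symm)
    refine ⟨0, θ ∘ z, ?_⟩
    rw [pow_zero, one_smul]
    funext i
    rw [← RingHom.map_mulVec, show D (2 * N + 1 + 1) *ᵥ z = x - y from hz, Pi.sub_apply, map_sub, hy, sub_zero,
      RingHom.map_mulVec]
    have hΦθ : (Φ (2 * N + 2)).map θ = (Φ' (2 * N + 2)).map θπ :=
      Matrix.ext fun i j => congrArg θ (congrFun (congrFun (hΦ' (2 * N + 2)) i) j).symm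
    rw [hΦθ]
    rfl
  have hzero : OK 0 := by
    have : ∀ a, OK (2 * a) → OK 0 := fun a => by
      induction a with
      | zero => exact id
      | succ a ih => exact fun h => ih (hdown _ h)
    exact this (N + 1) hstart
  obtain ⟨j, y, hy⟩ := hzero
  choose Y hY using fun i => hθ (y i)
  refine ⟨j, Y, fun i => ?_⟩
  rw [RingHom.map_mulVec, show θ ∘ Y = y from funext hY]
  refine (congrFun hy i).trans ?_
  have hw : w 0 i = 1 := by
    have h0 : (Φ' 0).map θπ i = θπ ∘ c := funext fun t => congrArg θ (congrFun (congrFun (hΦ' 0) i) t)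
    change ((Φ' 0).map θπ i) ⬝ᵥ (θπ ∘ u) = 1
    rw [h0, ← RingHom.map_dotProduct, hcu, map_one]
  rw [Pi.smul_apply, hw, smul_eq_mul, mul_one]
  rfl

end Chain

end Groth.Agent.RelLift

end
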