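import Groth.Agent.RelLift.Core
import Mathlib.RingTheory.Polynomial.Basic

/-!
# Flat syzygies of a quotient of a polynomial ring
-/

noncomputable section

universe u

open scoped Matrix

namespace Groth.Agent.RelLift

variable (R : Type u) {P : Type u} [CommRing R] [CommRing P] [Algebra R P]
variable {b : ℕ → ℕ} (D : ∀ n, Matrix (Fin (b n)) (Fin (b (n + 1))) P)

/-- The differential as a map over `R`. -/
def dR (n : ℕ) : (Fin (b (n + 1)) → P) →ₗ[R] (Fin (b n) → P) := (D n).mulVecLin.restrictScalars R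

variable {R D} [Module.Flat R P] (hD : ∀ n, Function.Exact (D (n + 1)).mulVecLin (D n).mulVecLin)
variable {S : Type u} [AddCommGroup S] [Module R S] (e : (Fin (b 0) → P) →ₗ[R] S) (he : Function.Surjective e)
variable (hex : Function.Exact (dR R D 0) e)
include hD he hex

/-- The cokernels of a resolution have decreasing tor dimension. -/
theorem hasTorDimLE_coker (a : ℕ) : ∀ d, DRing.HasTorDimLE R (d + a + 1) S →
    DRing.HasTorDimLE R d ((Fin (b (a + 1)) → P) ⧸ LinearMap.range (dR R D (a + 1))) := by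
  classical
  have hker : ∀ n, LinearMap.ker (dR R D n) = LinearMap.range (dR R D (n + 1)) := fun n =>
    SetLike.ext fun x => hD n x
  let i : ∀ n, ((Fin (b (n + 1)) → P) ⧸ LinearMap.range (dR R D (n + 1))) →ₗ[R] (Fin (b n) → P) := fun n =>
    Submodule.liftQ _ (dR R D n) (hker n).ge
  have hi : ∀ n, Function.Injective (i n) := fun n => LinearMap.ker_eq_bot.1 (by
    rw [Submodule.ker_liftQ, hker, Submodule.mkQ_map_self])
  have hr : ∀ n, LinearMap.range (i n) = LinearMap.range (dR R D n) := fun n => Submodule.range_liftQ _ _ _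
  haveI : ∀ n, Module.Flat R (Fin n → P) := fun n =>
    Module.Flat.of_linearEquiv (DirectSum.linearEquivFunOnFintype R (Fin n) fun _ => P).symm
  induction a with
  | zero =>
    intro d h
    refine TorShift.hasTorDimLE_of_exact (i := i 0) (π := e) (hi 0) ?_ he h
    rw [LinearMap.exact_iff, hr]
    exact LinearMap.exact_iff.1 hex
  | succ a ih =>
    intro d h
    refine TorShift.hasTorDimLE_of_exact (i := i (a + 1)) (π := Submodule.mkQ _) (hi _) ?_
      (Submodule.mkQ_surjective _) (ih (d + 1) (by rwa [show d + 1 + a + 1 = d + (a + 1) + 1 by ring]))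
    rw [LinearMap.exact_iff, Submodule.ker_mkQ, hr]

/-- Purity of a high differential modulo an ideal of the base. -/
theorem exists_pure {n₀ : ℕ} (hS : DRing.HasTorDimLE R n₀ S) (I : Ideal R) (N : ℕ) (hN : n₀ ≤ 2 * N + 1)
    (x : Fin (b (2 * N + 2)) → P) (hx : ∀ j, (D (2 * N + 1) *ᵥ x) j ∈ I.map (algebraMap R P)) :
    ∃ y, (∀ j, y j ∈ I.map (algebraMap R P)) ∧ D (2 * N + 1) *ᵥ y = D (2 * N + 1) *ᵥ x := by
  classical
  haveI := TorShift.flat_of_hasTorDimLE_zero (hasTorDimLE_coker hD e he hex (2 * N) 0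
    (TorShift.hasTorDimLE_mono (by omega) hS))
  have hsingle : ∀ {l : ℕ} (v : Fin l → P), (∀ j, v j ∈ I.map (algebraMap R P)) →
      v ∈ I • (⊤ : Submodule R (Fin l → P)) := by
    intro l v hv
    rw [← Finset.univ_sum_single v]
    refine Submodule.sum_mem _ fun j _ => ?_
    have h : v j ∈ I • (⊤ : Submodule R P) := by rw [Ideal.smul_top_eq_map]; exact hv j
    have h2 := Submodule.mem_map_of_mem (f := LinearMap.single R (fun _ : Fin l => P) j) h
    rw [Submodule.map_smul''] at h2
    exact Submodule.smul_mono le_rfl le_top h2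
  obtain ⟨y, hy, hyx⟩ := TorShift.exists_mem_smul_top_of_flat (dR R D (2 * N + 1)) (x := x) (hsingle _ hx)
  refine ⟨y, fun j => ?_, hyx⟩
  have h2 := Submodule.mem_map_of_mem (f := (LinearMap.proj j : (Fin (b (2 * N + 2)) → P) →ₗ[R] P)) hy
  rw [Submodule.map_smul''] at h2
  have h3 := Submodule.smul_mono (le_refl I) le_top h2
  rw [Ideal.smul_top_eq_map] at h3
  exact h3

end Groth.Agent.RelLift

end
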